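import Mathlib
import Cfsg.Prelude.Def_OddOrderLocal
import Cfsg.Statements.S1350
import Cfsg.Statements.S1353
import Cfsg.Statements.S1429
import Cfsg.Statements.S1430
import Cfsg.Statements.S1440
import Cfsg.Agent.S1446
import Cfsg.Agent.Lib.Helper1.MixBase
import Cfsg.Agent.Lib.Helper35.BG.Hall
import Cfsg.Agent.Lib.Helper67.BG.FitUtil
import Cfsg.Agent.Lib.Helper67.BG.S1357Core
import Cfsg.Agent.Lib.Helper81.BG.S1431Star

/-!
Bender–Glauberman: in a standard factorisation `M = K U M_σ` with `K ≠ 1` and `U ≠ 1`, the group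
`K` has prime order, `F(M)` is a TI-subset of `G` and `M_σ ≤ F(M)` (statement S1372).

Derived from S1350 (`M_σ` is a Hall subgroup), S1353 (`C_U(k) = 1`), S1429 (`M_σ` nilpotent and
`C_{M_σ}(Ω₁(S)) = 1` when `M` is not of type `P₁`), S1430 (`C_{M_σ}(k) = K*`) and S1440
(`M' = F(M) = M_σ × O_{σ(M)'}(F(M))` whenever `F(M) ∩ F(M)^g ≠ 1`, `g ∉ M`), all taken as
hypotheses, together with the landed statement S1446.
-/

set_option autoImplicit false

namespace Cfsg.Agent.Lib.Helper81.BG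

open Cfsg Cfsg.Agent.Lib.Helper46 Cfsg.Agent.Lib.Helper35.BG Cfsg.Agent.Lib.Helper67.BG

/-- If `k ∈ K` normalizes `U` and centralizes no non-identity element of `U`, then every element
of `U` is a commutator `[v, k]` with `v ∈ U`; in particular `U ≤ [M, M]` when `U, K ≤ M`. -/
theorem le_commutator_of_fpf {G : Type*} [Group G] [Finite G] {M K U : Subgroup G} (hUM : U ≤ M)
    (hKM : K ≤ M) (hKU : K ≤ Subgroup.normalizer (U : Set G)) {k : G} (hk : k ∈ K)
    (hfpf : U ⊓ Subgroup.centralizer ({k} : Set G) = ⊥) : U ≤ ⁅M, M⁆ := by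
  have hmem : ∀ u ∈ U, u * k * u⁻¹ * k⁻¹ ∈ U := by
    intro u hu
    have h1 : k * u⁻¹ * k⁻¹ ∈ U :=
      (Subgroup.mem_normalizer_iff.mp (hKU hk) u⁻¹).mp (U.inv_mem hu)
    have h2 := U.mul_mem hu h1
    simpa [mul_assoc] using h2
  let f : U → U := fun u => ⟨(u : G) * k * (u : G)⁻¹ * k⁻¹, hmem u u.2⟩
  have hinj : Function.Injective f := by
    intro u v huv
    have h1 : (u : G) * k * (u : G)⁻¹ * k⁻¹ = (v : G) * k * (v : G)⁻¹ * k⁻¹ :=
      congrArg Subtype.val huv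
    have h2 : (u : G) * k * (u : G)⁻¹ = (v : G) * k * (v : G)⁻¹ := mul_right_cancel h1
    have h3 : ((v : G)⁻¹ * u) ∈ U ⊓ Subgroup.centralizer ({k} : Set G) := by
      refine Subgroup.mem_inf.mpr ⟨U.mul_mem (U.inv_mem v.2) u.2, ?_⟩
      rw [Subgroup.mem_centralizer_singleton_iff]
      have h4 : (v : G)⁻¹ * ((u : G) * k * (u : G)⁻¹) * u = (v : G)⁻¹ * ((v : G) * k * (v : G)⁻¹) * u := by
        rw [h2]
      calc (v : G)⁻¹ * u * k = (v : G)⁻¹ * ((u : G) * k * (u : G)⁻¹) * u := by group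
        _ = (v : G)⁻¹ * ((v : G) * k * (v : G)⁻¹) * u := h4
        _ = k * ((v : G)⁻¹ * u) := by group
    rw [hfpf, Subgroup.mem_bot] at h3
    apply Subtype.ext
    have h5 : (u : G) = v := by
      have := congrArg (fun t => (v : G) * t) h3
      simpa using this
    exact h5
  have hsurj : Function.Surjective f := Finite.surjective_of_injective hinj
  intro u hu
  obtain ⟨v, hv⟩ := hsurj ⟨u, hu⟩
  have h1 : (v : G) * k * (v : G)⁻¹ * k⁻¹ = u := congrArg Subtype.val hv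
  rw [← h1]
  exact Subgroup.commutator_mem_commutator (hUM v.2) (hKM hk)

theorem s1372_core {G : Type*} [Group G] [Finite G] (hG : Cfsg.IsMinSimpleOddOrder G)
    (h1350 : type_of% (@Cfsg.CfsgFrozen.S1350 G _ _ hG))
    (h1353 : type_of% (@Cfsg.CfsgFrozen.S1353 G _ _ hG))
    (h1429 : type_of% (@Cfsg.CfsgFrozen.S1429 G _ _ hG))
    (h1430 : type_of% (@Cfsg.CfsgFrozen.S1430 G _ _ hG))
    (h1440 : type_of% (@Cfsg.CfsgFrozen.S1440 G _ _ hG))
    (M : Subgroup G) (hM : IsCoatom M) (K U : Subgroup G) (hKU : Cfsg.IsSigmaDecomposition M K U)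
    (hK1 : K ≠ ⊥) (hU1 : U ≠ ⊥) :
    (Nat.card K).Prime ∧ Cfsg.IsTISubset (Cfsg.fittingOf M : Set G) ∧
      Cfsg.sigmaCore M ≤ Cfsg.fittingOf M := by
  obtain ⟨hHall, -, -⟩ := h1350 M hM
  have hUH := isPiHallOf_of_sigmaDecomposition hHall hKU
  have hUM : U ≤ M := hKU.compl.1
  have hKM : K ≤ M := hKU.hall.1
  have hσM : sigmaCore M ≤ M := sigmaCore_le M
  -- a prime `p` dividing `|U|`
  have hUcard : Nat.card U ≠ 1 := by
    intro h
    exact hU1 (Subgroup.card_eq_one.mp h)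
  obtain ⟨p, hp, hpU⟩ := Nat.exists_prime_and_dvd hUcard
  have hpF : Fact p.Prime := ⟨hp⟩
  obtain ⟨-, hpκ, hpσ⟩ := hUH.2.1 p hp hpU
  have hpM : p ∣ Nat.card M := dvd_trans hpU (Subgroup.card_dvd_of_le hUM)
  have hP1 : ¬ (∀ q : ℕ, q.Prime → q ∣ Nat.card M → q ∉ Cfsg.sigma M → q ∈ Cfsg.kappa M) :=
    fun h => hpκ (h p hp hpM hpσ)
  -- a Sylow `p`-subgroup of `U` is a Sylow `p`-subgroup of `M`
  obtain ⟨P₀⟩ : Nonempty (Sylow p U) := inferInstance
  have hP₀ : IsSylowIn p ((P₀ : Subgroup U).map U.subtype) U := isSylowIn_of_sylow P₀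
  have hPU : (P₀ : Subgroup U).map U.subtype ≤ U := hP₀.1
  have hPp : IsPGroup p ((P₀ : Subgroup U).map U.subtype) :=
    IsPGroup.of_card (n := (Nat.card U).factorization p) hP₀.2
  have hPidxU : ¬ p ∣ ((P₀ : Subgroup U).map U.subtype).relIndex U := by
    have h1 : ((P₀ : Subgroup U).map U.subtype).relIndex U = (P₀ : Subgroup U).index := by
      unfold Subgroup.relIndex
      congr 1
      ext x
      simp [Subgroup.mem_subgroupOf]
    rw [h1]
    exact P₀.not_dvd_index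
  have hPidxM : ¬ p ∣ ((P₀ : Subgroup U).map U.subtype).relIndex M := by
    rw [← Subgroup.relIndex_mul_relIndex _ U M hPU hUM]
    intro h
    rcases (Nat.Prime.dvd_mul hp).mp h with h | h
    · exact hPidxU h
    · exact hUH.2.2 p hp ⟨hp, hpκ, hpσ⟩ h
  have hPM : IsSylowIn p ((P₀ : Subgroup U).map U.subtype) M :=
    sylIn_of_not_dvd_relIndex (hPU.trans hUM) hPp hPidxM
  obtain ⟨S, hS⟩ := hPM.exists_sylow
  have hpσκ : p ∉ Cfsg.sigma M ∪ Cfsg.kappa M := by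
    rintro (h | h)
    · exact hpσ h
    · exact hpκ h
  obtain ⟨-, hC, hnil⟩ := h1429 M hM hP1 p hpM hpσκ S
  -- `C_{M_σ}(U) = 1`
  have hCU : sigmaCore M ⊓ Subgroup.centralizer (U : Set G) = ⊥ := by
    rw [eq_bot_iff, ← hC]
    refine inf_le_inf le_rfl (Subgroup.centralizer_le ?_)
    have : Subgroup.closure {x : G | x ∈ (S : Subgroup M).map M.subtype ∧ x ^ p = 1} ≤ U := by
      rw [Subgroup.closure_le]
      rintro x ⟨hx, -⟩
      rw [hS] at hx
      exact hPU hx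
    exact this
  -- `M_σ ≤ F(M)`
  have hσF : sigmaCore M ≤ fittingOf M :=
    le_fittingOf_of_normal_nilpotent hσM (sigmaCore_normalizer M) hnil
  -- `M_σ ≠ 1`
  have hσ1 : sigmaCore M ≠ ⊥ := by
    have hKcard : Nat.card K ≠ 1 := fun h => hK1 (Subgroup.card_eq_one.mp h)
    obtain ⟨q, hq, hqK⟩ := Nat.exists_prime_and_dvd hKcard
    have hqκ : q ∈ kappa M := hKU.hall.2.1 q hq hqK
    have : Fact q.Prime := ⟨hq⟩
    obtain ⟨Q⟩ : Nonempty (Sylow q M) := inferInstance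
    obtain ⟨-, x, -, -, y, hy, hy1, -⟩ := hqκ.2.2.2 Q
    intro h
    rw [h, Subgroup.mem_bot] at hy
    exact hy1 hy
  have hUK : U ⊓ K = ⊥ := by
    rw [eq_bot_iff, ← hKU.compl.2.2.1]
    exact inf_le_inf le_rfl le_sup_left
  have hUKM : U ⊔ K ≤ M := sup_le hUM hKM
  have hMtop : M ≠ ⊤ := hM.1
  have hUKtop : U ⊔ K ≠ ⊤ := fun h => hMtop (top_le_iff.mp (h ▸ hUKM))
  -- coprimality
  have hcop : (Nat.card ↥(U ⊔ K)).Coprime (Nat.card (sigmaCore M)) := by
    apply Nat.coprime_of_dvd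
    intro q hq hq1 hq2
    have hqσ : q ∈ sigma M := sigmaCore_isPi M q hq hq2
    have h1 : Nat.card ↥(K ⊔ U) ∣ Nat.card K * Nat.card U :=
      Cfsg.Agent.Lib.Helper1.Mix.card_sup_dvd K U hKU.normal
    rw [sup_comm] at hq1
    rcases (Nat.Prime.dvd_mul hq).mp (dvd_trans hq1 h1) with h | h
    · exact (hKU.hall.2.1 q hq h).2.2.1 hqσ
    · exact (hUH.2.1 q hq h).2.2 hqσ
  have hprime := Cfsg.Agent.S1446.result U K (sigmaCore M) hU1 hK1 hUK hKU.normal
    (h1353 M hM K U hKU) (isSolvable_of_ne_top hG hUKtop) (odd_card_subgroup hG _) hσ1 hnil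
    (hUM.trans (sigmaCore_normalizer M)) (hKM.trans (sigmaCore_normalizer M)) hcop hCU
    (h1430 M hM K hKU.hall hK1).1
  refine ⟨hprime.1, ?_, hσF⟩
  -- the TI property
  intro g hg x hx hgx
  by_contra hx1
  have hgM : g ∉ M := fun h => hg (fittingOf_normalizer M h)
  have hg'M : g⁻¹ ∉ M := fun h => hgM (by simpa using M.inv_mem h)
  have hX : fittingOf M ⊓ (fittingOf M).map (MulAut.conj g⁻¹).toMonoidHom ≠ ⊥ := by
    intro h
    have hmem : x ∈ fittingOf M ⊓ (fittingOf M).map (MulAut.conj g⁻¹).toMonoidHom := by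
      refine ⟨hx, ⟨g * x * g⁻¹, hgx, ?_⟩⟩
      change g⁻¹ * (g * x * g⁻¹) * g⁻¹⁻¹ = x
      group
    rw [h, Subgroup.mem_bot] at hmem
    exact hx1 hmem
  obtain ⟨-, ⟨hMF, hFY⟩, -⟩ := h1440 M hM K U hKU g⁻¹ hg'M hX
  -- `U ≤ M' = F(M)`
  obtain ⟨k, hk, hk1⟩ := (Subgroup.ne_bot_iff_exists_ne_one (H := K)).mp hK1 |> fun ⟨⟨k, hk⟩, h⟩ =>
    (⟨k, hk, fun h' => h (Subtype.ext h')⟩ : ∃ k ∈ K, k ≠ 1)
  have hUF : U ≤ fittingOf M := by
    rw [← hMF]
    exact le_commutator_of_fpf hUM hKM hKU.normal hk (h1353 M hM K U hKU k hk hk1)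
  -- `Y = O_{σ(M)'}(F(M))` centralizes `M_σ`
  set Y : Subgroup G := piCoreOf {q | q.Prime ∧ q ∉ Cfsg.sigma M} (fittingOf M) with hYdef
  have hFM : fittingOf M ≤ M := fittingOf_le M
  have hYF : Y ≤ fittingOf M := Subgroup.map_subtype_le _
  have hFY' : fittingOf M ≤ Subgroup.normalizer (Y : Set G) :=
    le_normalizer_map_subtype (fittingOf M) _
  have hYcop : (Nat.card (sigmaCore M)).Coprime (Nat.card Y) := by
    apply Nat.coprime_of_dvd
    intro q hq hq1 hq2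
    have hqσ : q ∈ sigma M := sigmaCore_isPi M q hq hq1
    have h1 : Nat.card Y = Nat.card (piCore {q | q.Prime ∧ q ∉ Cfsg.sigma M} ↥(fittingOf M)) := by
      rw [hYdef]
      unfold piCoreOf
      rw [Subgroup.card_map_of_injective (Subgroup.subtype_injective _)]
    rw [h1] at hq2
    exact (Cfsg.Agent.S3743.piCore_isPi _ q hq hq2).2 hqσ
  have hσY : sigmaCore M ⊓ Y = ⊥ := (Subgroup.disjoint_of_coprime_natCard hYcop).eq_bot
  have hcomm : ∀ s ∈ sigmaCore M, ∀ y ∈ Y, s * y = y * s := by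
    intro s hs y hy
    have h1 : s * y * s⁻¹ * y⁻¹ ∈ sigmaCore M := by
      have h2 : y * s⁻¹ * y⁻¹ ∈ sigmaCore M :=
        (Subgroup.mem_normalizer_iff.mp (sigmaCore_normalizer M (hFM (hYF hy))) s⁻¹).mp
          ((sigmaCore M).inv_mem hs)
      have h3 := (sigmaCore M).mul_mem hs h2
      simpa [mul_assoc] using h3
    have h2 : s * y * s⁻¹ * y⁻¹ ∈ Y := by
      have h3 : s * y * s⁻¹ ∈ Y := (Subgroup.mem_normalizer_iff.mp (hFY' (hσF hs)) y).mp hy
      exact Y.mul_mem h3 (Y.inv_mem hy)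
    have h3 : s * y * s⁻¹ * y⁻¹ ∈ sigmaCore M ⊓ Y := ⟨h1, h2⟩
    rw [hσY, Subgroup.mem_bot] at h3
    have h4 : s * y = (s * y * s⁻¹ * y⁻¹) * (y * s) := by group
    rw [h4, h3, one_mul]
  -- a non-identity central element of `M_σ`
  have : Group.IsNilpotent ↥(sigmaCore M) := hnil
  have : Nontrivial ↥(sigmaCore M) := (Subgroup.nontrivial_iff_ne_bot _).mpr hσ1
  obtain ⟨⟨z, hzσ⟩, hzc, hz1⟩ : ∃ z : ↥(sigmaCore M), z ∈ Subgroup.center ↥(sigmaCore M) ∧ z ≠ 1 := by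
    have hne := Group.IsNilpotent.center_ne_bot ↥(sigmaCore M)
    obtain ⟨⟨z, hz⟩, hz1⟩ := (Subgroup.ne_bot_iff_exists_ne_one (H := Subgroup.center ↥(sigmaCore M))).mp hne
    exact ⟨z, hz, fun h => hz1 (Subtype.ext h)⟩
  have hzcomm : ∀ s ∈ sigmaCore M, s * z = z * s := by
    intro s hs
    have h1 := (Subgroup.mem_center_iff.mp hzc) ⟨s, hs⟩
    exact congrArg Subtype.val h1
  -- `F(M) = M_σ Y` centralizes `z`
  have hFz : fittingOf M ≤ Subgroup.centralizer ({z} : Set G) := by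
    rw [hFY]
    apply sup_le
    · intro s hs
      rw [Subgroup.mem_centralizer_singleton_iff]
      exact hzcomm s hs
    · intro y hy
      rw [Subgroup.mem_centralizer_singleton_iff]
      exact (hcomm z hzσ y hy).symm
  have hzU : z ∈ sigmaCore M ⊓ Subgroup.centralizer (U : Set G) := by
    refine Subgroup.mem_inf.mpr ⟨hzσ, ?_⟩
    rw [Subgroup.mem_centralizer_iff]
    intro u hu
    exact Subgroup.mem_centralizer_singleton_iff.mp (hFz (hUF hu))
  rw [hCU, Subgroup.mem_bot] at hzU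
  exact hz1 (Subtype.ext hzU)

end Cfsg.Agent.Lib.Helper81.BG
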