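import Mathlib
import Cfsg.Prelude.Def_OddOrderLocal
import Cfsg.Statements.S1350
import Cfsg.Statements.S1353
import Cfsg.Statements.S1403
import Cfsg.Statements.S1420
import Cfsg.Statements.S1429
import Cfsg.Statements.S1430
import Cfsg.Statements.S1439
import Cfsg.Agent.S1446
import Cfsg.Agent.Lib.Helper1.MixBase
import Cfsg.Agent.Lib.Helper35.BG.Hall
import Cfsg.Agent.Lib.Helper67.BG.FitUtil
import Cfsg.Agent.Lib.Helper67.BG.S1357Core
import Cfsg.Agent.Lib.Helper81.BG.S1431Star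
import Cfsg.Agent.Lib.Helper97.FrobFormula
import Cfsg.Agent.Lib.Helper23.NilpParts
import Cfsg.Agent.Lib.Helper23.Transitivity2
import Cfsg.Agent.Lib.Helper74.BG.Tools
import Cfsg.Agent.Lib.Helper61.BG9a

/-!
Bender–Glauberman: in a standard factorisation `M = K U M_σ` with `K ≠ 1` and `U ≠ 1`, the group
`K` has prime order, `F(M)` is a TI-subset of `G` and `M_σ ≤ F(M)` (statement S1372).

This version does not use S1440.  It is derived from S1350 (`M_σ` is a Hall subgroup), S1353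
(`C_U(k) = 1`), S1403 (uniqueness theorem), S1420 (centralizers of `τ₂`-elements), S1429 (`M_σ`
nilpotent and `C_{M_σ}(Ω₁(S)) = 1` when `M` is not of type `P₁`), S1430 (`C_{M_σ}(k) = K*`) and
S1439 (`F(M) = F(M_σ) × Y` with `Y` a cyclic `τ₂(M)`-group), all taken as hypotheses, together
with the landed statement S1446 and the fixed point formula for Frobenius actions.
-/

set_option autoImplicit false

namespace Cfsg.Agent.Lib.Helper81.BG

open Cfsg Cfsg.Agent.Lib.Helper46 Cfsg.Agent.Lib.Helper35.BG Cfsg.Agent.Lib.Helper67.BG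

/-- A subgroup `M` all of whose elements conjugate `E` into itself normalizes `E`. -/
theorem le_normalizer_of_conj_mem_all {G : Type*} [Group G] {M E : Subgroup G}
    (h : ∀ m ∈ M, ∀ z ∈ E, m * z * m⁻¹ ∈ E) : M ≤ Subgroup.normalizer (E : Set G) := by
  intro m hm
  rw [Subgroup.mem_normalizer_iff]
  intro z
  constructor
  · exact h m hm z
  · intro hz
    have := h m⁻¹ (M.inv_mem hm) _ hz
    simpa [mul_assoc] using this

/-- `Ω₁(Z(Q))` for the prime `r`: the elements of `Q` that are central in `Q` and have order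
dividing `r`. -/
def omegaCenter {G : Type*} [Group G] (Q : Subgroup G) (r : ℕ) : Subgroup G where
  carrier := {z | z ∈ Q ∧ (∀ s ∈ Q, s * z = z * s) ∧ z ^ r = 1}
  one_mem' := ⟨Q.one_mem, fun s _ => by simp, one_pow r⟩
  mul_mem' := by
    rintro a b ⟨ha, hac, har⟩ ⟨hb, hbc, hbr⟩
    refine ⟨Q.mul_mem ha hb, fun s hs => ?_, ?_⟩
    · calc s * (a * b) = (s * a) * b := by group
        _ = (a * s) * b := by rw [hac s hs]
        _ = a * (s * b) := by group
        _ = a * (b * s) := by rw [hbc s hs]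
        _ = a * b * s := by group
    · have hcomm : Commute a b := hbc a ha
      rw [hcomm.mul_pow, har, hbr, one_mul]
  inv_mem' := by
    rintro a ⟨ha, hac, har⟩
    refine ⟨Q.inv_mem ha, fun s hs => ?_, by rw [inv_pow, har, inv_one]⟩
    have h1 := hac s hs
    calc s * a⁻¹ = a⁻¹ * (a * s) * a⁻¹ := by group
      _ = a⁻¹ * (s * a) * a⁻¹ := by rw [h1]
      _ = a⁻¹ * s := by group

/-- The first half of S1372: `|K|` is prime, `M_σ` is nilpotent, `C_{M_σ}(U) = 1`, `M_σ ≠ 1`,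
and `|UK|` is coprime to `|M_σ|`. -/
theorem s1372_front {G : Type*} [Group G] [Finite G] (hG : Cfsg.IsMinSimpleOddOrder G)
    (h1350 : type_of% (@Cfsg.CfsgFrozen.S1350 G _ _ hG))
    (h1353 : type_of% (@Cfsg.CfsgFrozen.S1353 G _ _ hG))
    (h1429 : type_of% (@Cfsg.CfsgFrozen.S1429 G _ _ hG))
    (h1430 : type_of% (@Cfsg.CfsgFrozen.S1430 G _ _ hG))
    (M : Subgroup G) (hM : IsCoatom M) (K U : Subgroup G) (hKU : Cfsg.IsSigmaDecomposition M K U)
    (hK1 : K ≠ ⊥) (hU1 : U ≠ ⊥) :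
    (Nat.card K).Prime ∧ Group.IsNilpotent ↥(Cfsg.sigmaCore M) ∧
      Cfsg.sigmaCore M ⊓ Subgroup.centralizer (U : Set G) = ⊥ ∧ Cfsg.sigmaCore M ≠ ⊥ ∧
      (Nat.card ↥(U ⊔ K)).Coprime (Nat.card (Cfsg.sigmaCore M)) ∧
      Cfsg.IsPiHallOf (Cfsg.sigma M) (Cfsg.sigmaCore M) M := by
  obtain ⟨hHall, -, -⟩ := h1350 M hM
  have hUH := isPiHallOf_of_sigmaDecomposition hHall hKU
  have hUM : U ≤ M := hKU.compl.1
  have hKM : K ≤ M := hKU.hall.1
  have hσM : sigmaCore M ≤ M := sigmaCore_le M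
  -- a prime `p` dividing `|U|`
  have hUcard : Nat.card U ≠ 1 := by
    intro h
    exact hU1 (Subgroup.card_eq_one.mp h)
  obtain ⟨p, hp, hpU⟩ := Nat.exists_prime_and_dvd hUcard
  have hpF : Fact p.Prime := ⟨hp⟩
  obtain ⟨-, hpκ, hpσ⟩ := hUH.2.1 p hp hpU
  have hpM : p ∣ Nat.card M := dvd_trans hpU (Subgroup.card_dvd_of_le hUM)
  have hP1 : ¬ (∀ q : ℕ, q.Prime → q ∣ Nat.card M → q ∉ Cfsg.sigma M → q ∈ Cfsg.kappa M) :=
    fun h => hpκ (h p hp hpM hpσ)
  -- a Sylow `p`-subgroup of `U` is a Sylow `p`-subgroup of `M`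
  obtain ⟨P₀⟩ : Nonempty (Sylow p U) := inferInstance
  have hP₀ : IsSylowIn p ((P₀ : Subgroup U).map U.subtype) U := isSylowIn_of_sylow P₀
  have hPU : (P₀ : Subgroup U).map U.subtype ≤ U := hP₀.1
  have hPp : IsPGroup p ((P₀ : Subgroup U).map U.subtype) :=
    IsPGroup.of_card (n := (Nat.card U).factorization p) hP₀.2
  have hPidxU : ¬ p ∣ ((P₀ : Subgroup U).map U.subtype).relIndex U := by
    have h1 : ((P₀ : Subgroup U).map U.subtype).relIndex U = (P₀ : Subgroup U).index := by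
      unfold Subgroup.relIndex
      congr 1
      ext x
      simp [Subgroup.mem_subgroupOf]
    rw [h1]
    exact P₀.not_dvd_index
  have hPidxM : ¬ p ∣ ((P₀ : Subgroup U).map U.subtype).relIndex M := by
    rw [← Subgroup.relIndex_mul_relIndex _ U M hPU hUM]
    intro h
    rcases (Nat.Prime.dvd_mul hp).mp h with h | h
    · exact hPidxU h
    · exact hUH.2.2 p hp ⟨hp, hpκ, hpσ⟩ h
  have hPM : IsSylowIn p ((P₀ : Subgroup U).map U.subtype) M :=
    sylIn_of_not_dvd_relIndex (hPU.trans hUM) hPp hPidxM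
  obtain ⟨S, hS⟩ := hPM.exists_sylow
  have hpσκ : p ∉ Cfsg.sigma M ∪ Cfsg.kappa M := by
    rintro (h | h)
    · exact hpσ h
    · exact hpκ h
  obtain ⟨-, hC, hnil⟩ := h1429 M hM hP1 p hpM hpσκ S
  -- `C_{M_σ}(U) = 1`
  have hCU : sigmaCore M ⊓ Subgroup.centralizer (U : Set G) = ⊥ := by
    rw [eq_bot_iff, ← hC]
    refine inf_le_inf le_rfl (Subgroup.centralizer_le ?_)
    have : Subgroup.closure {x : G | x ∈ (S : Subgroup M).map M.subtype ∧ x ^ p = 1} ≤ U := by
      rw [Subgroup.closure_le]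
      rintro x ⟨hx, -⟩
      rw [hS] at hx
      exact hPU hx
    exact this
  -- `M_σ ≠ 1`
  have hσ1 : sigmaCore M ≠ ⊥ := by
    have hKcard : Nat.card K ≠ 1 := fun h => hK1 (Subgroup.card_eq_one.mp h)
    obtain ⟨q, hq, hqK⟩ := Nat.exists_prime_and_dvd hKcard
    have hqκ : q ∈ kappa M := hKU.hall.2.1 q hq hqK
    have : Fact q.Prime := ⟨hq⟩
    obtain ⟨Q⟩ : Nonempty (Sylow q M) := inferInstance
    obtain ⟨-, x, -, -, y, hy, hy1, -⟩ := hqκ.2.2.2 Q
    intro h
    rw [h, Subgroup.mem_bot] at hy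
    exact hy1 hy
  have hUK : U ⊓ K = ⊥ := by
    rw [eq_bot_iff, ← hKU.compl.2.2.1]
    exact inf_le_inf le_rfl le_sup_left
  have hUKM : U ⊔ K ≤ M := sup_le hUM hKM
  have hMtop : M ≠ ⊤ := hM.1
  have hUKtop : U ⊔ K ≠ ⊤ := fun h => hMtop (top_le_iff.mp (h ▸ hUKM))
  -- coprimality
  have hcop : (Nat.card ↥(U ⊔ K)).Coprime (Nat.card (sigmaCore M)) := by
    apply Nat.coprime_of_dvd
    intro q hq hq1 hq2
    have hqσ : q ∈ sigma M := sigmaCore_isPi M q hq hq2
    have h1 : Nat.card ↥(K ⊔ U) ∣ Nat.card K * Nat.card U :=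
      Cfsg.Agent.Lib.Helper1.Mix.card_sup_dvd K U hKU.normal
    rw [sup_comm] at hq1
    rcases (Nat.Prime.dvd_mul hq).mp (dvd_trans hq1 h1) with h | h
    · exact (hKU.hall.2.1 q hq h).2.2.1 hqσ
    · exact (hUH.2.1 q hq h).2.2 hqσ
  have hprime := Cfsg.Agent.S1446.result U K (sigmaCore M) hU1 hK1 hUK hKU.normal
    (h1353 M hM K U hKU) (isSolvable_of_ne_top hG hUKtop) (odd_card_subgroup hG _) hσ1 hnil
    (hUM.trans (sigmaCore_normalizer M)) (hKM.trans (sigmaCore_normalizer M)) hcop hCU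
    (h1430 M hM K hKU.hall hK1).1
  exact ⟨hprime.1, hnil, hCU, hσ1, hcop, hHall⟩

theorem s1372_coreB {G : Type*} [Group G] [Finite G] (hG : Cfsg.IsMinSimpleOddOrder G)
    (h1350 : type_of% (@Cfsg.CfsgFrozen.S1350 G _ _ hG))
    (h1353 : type_of% (@Cfsg.CfsgFrozen.S1353 G _ _ hG))
    (h1403 : type_of% (@Cfsg.CfsgFrozen.S1403 G _ _ hG))
    (h1420 : type_of% (@Cfsg.CfsgFrozen.S1420 G _ _ hG))
    (h1429 : type_of% (@Cfsg.CfsgFrozen.S1429 G _ _ hG))
    (h1430 : type_of% (@Cfsg.CfsgFrozen.S1430 G _ _ hG))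
    (h1439 : type_of% (@Cfsg.CfsgFrozen.S1439 G _ _ hG))
    (M : Subgroup G) (hM : IsCoatom M) (K U : Subgroup G) (hKU : Cfsg.IsSigmaDecomposition M K U)
    (hK1 : K ≠ ⊥) (hU1 : U ≠ ⊥) :
    (Nat.card K).Prime ∧ Cfsg.IsTISubset (Cfsg.fittingOf M : Set G) ∧
      Cfsg.sigmaCore M ≤ Cfsg.fittingOf M := by
  obtain ⟨hprime, hnil, hCU, hσ1, hcop, hHall⟩ :=
    s1372_front hG h1350 h1353 h1429 h1430 M hM K U hKU hK1 hU1
  have hUM : U ≤ M := hKU.compl.1
  have hKM : K ≤ M := hKU.hall.1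
  have hσM : sigmaCore M ≤ M := sigmaCore_le M
  have hσF : sigmaCore M ≤ fittingOf M :=
    le_fittingOf_of_normal_nilpotent hσM (sigmaCore_normalizer M) hnil
  refine ⟨hprime, ?_, hσF⟩
  -- the TI property
  intro g hg x hx hgx
  by_contra hx1
  have hgM : g ∉ M := fun h => hg (fittingOf_normalizer M h)
  have hFM : fittingOf M ≤ M := fittingOf_le M
  have hNM : Subgroup.normalizer (M : Set G) ≤ M := by
    by_contra h
    have hlt : M < Subgroup.normalizer (M : Set G) :=
      lt_of_le_of_ne Subgroup.le_normalizer (fun h' => h h'.symm.le)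
    have hMbot : M ≠ ⊥ := fun h' => hK1 (le_bot_iff.mp (h' ▸ hKM))
    exact normalizer_ne_top hG hMbot hM.1 (hM.2 _ hlt)
  -- it suffices to show that `g` normalizes `M`
  suffices hconj : M.map (MulAut.conj g).toMonoidHom = M from
    hgM (hNM (mem_normalizer_of_map_conj_eq hconj))
  -- powers of prime order
  have hn0 : orderOf x ≠ 0 := (orderOf_pos x).ne'
  have hn1 : orderOf x ≠ 1 := fun h => hx1 (orderOf_eq_one_iff.mp h)
  obtain ⟨r, hr, hrx⟩ := Nat.exists_prime_and_dvd hn1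
  have hrF : Fact r.Prime := ⟨hr⟩
  obtain ⟨x', hx'def⟩ : ∃ x' : G, x' = x ^ (orderOf x / r) := ⟨_, rfl⟩
  have hx'ord : orderOf x' = r := by
    rw [hx'def]
    exact orderOf_pow_orderOf_div hn0 hrx
  have hx'F : x' ∈ fittingOf M := by
    rw [hx'def]
    exact (fittingOf M).pow_mem hx _
  obtain ⟨y', hy'def⟩ : ∃ y' : G, y' = g * x' * g⁻¹ := ⟨_, rfl⟩
  have hy'F : y' ∈ fittingOf M := by
    have h1 : y' = (g * x * g⁻¹) ^ (orderOf x / r) := by rw [hy'def, hx'def, conj_pow]
    rw [h1]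
    exact (fittingOf M).pow_mem hgx _
  have hy'ord : orderOf y' = r := by
    have h1 := MulEquiv.orderOf_eq (MulAut.conj g) x'
    rw [MulAut.conj_apply, ← hy'def] at h1
    rw [h1, hx'ord]
  have hx'M : x' ∈ M := hFM hx'F
  have hy'M : y' ∈ M := hFM hy'F
  have hne1 : ∀ w : G, orderOf w = r → w ≠ 1 := by
    intro w hw h
    rw [h, orderOf_one] at hw
    exact hr.one_lt.ne hw
  have hx'1 : x' ≠ 1 := hne1 x' hx'ord
  have hy'1 : y' ≠ 1 := hne1 y' hy'ord
  by_cases hrσ : r ∈ sigma M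
  · -- `x', y' ∈ M_σ`
    have hmemσ : ∀ w ∈ M, orderOf w = r → w ∈ sigmaCore M := by
      intro w hw hword
      have h1 : Subgroup.zpowers w ≤ sigmaCore M :=
        Cfsg.Agent.Lib.Helper74.BG.le_of_isPiHallOf_of_normal hHall (sigmaCore_normalizer M)
          (by rw [Subgroup.zpowers_le]; exact hw)
          (fun p hp hdvd => by
            rw [Nat.card_zpowers, hword] at hdvd
            rw [(Nat.prime_dvd_prime_iff_eq hp hr).mp hdvd]
            exact hrσ)
      exact h1 (Subgroup.mem_zpowers w)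
    have hx'σ := hmemσ x' hx'M hx'ord
    have hy'σ := hmemσ y' hy'M hy'ord
    -- the Sylow `r`-subgroup `Q` of `M_σ`
    obtain ⟨P⟩ : Nonempty (Sylow r ↥(sigmaCore M)) := inferInstance
    obtain ⟨Q, hQdef⟩ : ∃ Q : Subgroup G,
        Q = (P : Subgroup ↥(sigmaCore M)).map (sigmaCore M).subtype := ⟨_, rfl⟩
    have hQσ : Q ≤ sigmaCore M := by
      rw [hQdef]
      exact Subgroup.map_subtype_le _
    have hPn : (P : Subgroup ↥(sigmaCore M)).Normal := by
      have h := (Group.isNilpotent_of_finite_tfae (G := ↥(sigmaCore M))).out 0 3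
      exact h.mp hnil r hrF P
    have hQsub : Q.subgroupOf (sigmaCore M) = (P : Subgroup ↥(sigmaCore M)) := by
      rw [hQdef]
      exact Subgroup.comap_map_eq_self_of_injective (Subgroup.subtype_injective _) _
    have hQn : sigmaCore M ≤ Subgroup.normalizer (Q : Set G) := by
      apply (Subgroup.normal_subgroupOf_iff_le_normalizer hQσ).mp
      rw [hQsub]
      exact hPn
    have hQp : IsPGroup r Q := by
      rw [hQdef]
      exact (isSylowIn_of_sylow P).isPGroup
    have hQidx : ¬ r ∣ Q.relIndex (sigmaCore M) := by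
      unfold Subgroup.relIndex
      rw [hQsub]
      exact P.not_dvd_index
    have hrQ : ∀ A : Subgroup G, A ≤ sigmaCore M → IsPGroup r A → A ≤ Q := fun A hA hAp =>
      le_of_normal_sylow hQσ hQn hQp hQidx hA hAp
    have hmemQ : ∀ w ∈ sigmaCore M, orderOf w = r → w ∈ Q := by
      intro w hw hword
      have h1 : Subgroup.zpowers w ≤ Q := hrQ _ (by rw [Subgroup.zpowers_le]; exact hw)
        (IsPGroup.of_card (n := 1) (by rw [Nat.card_zpowers, hword, pow_one]))
      exact h1 (Subgroup.mem_zpowers w)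
    have hx'Q := hmemQ x' hx'σ hx'ord
    have hy'Q := hmemQ y' hy'σ hy'ord
    -- `M` normalizes `Q`
    have hMQ : ∀ m ∈ M, ∀ z ∈ Q, m * z * m⁻¹ ∈ Q := by
      intro m hm z hz
      have h1 : Q.map (MulAut.conj m).toMonoidHom ≤ Q := by
        apply hrQ
        · rintro _ ⟨q, hq, rfl⟩
          exact (Subgroup.mem_normalizer_iff.mp (sigmaCore_normalizer M hm) q).mp (hQσ hq)
        · exact isPGroup_map_conj hQp m
      exact h1 (conj_mem_map_conj m hz)
    -- `E₀ = Ω₁(Z(Q))`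
    obtain ⟨E0, hE0def⟩ : ∃ E0 : Subgroup G, E0 = omegaCenter Q r := ⟨_, rfl⟩
    have hE0mem : ∀ z : G, z ∈ E0 ↔ z ∈ Q ∧ (∀ s ∈ Q, s * z = z * s) ∧ z ^ r = 1 := by
      intro z
      rw [hE0def]
      rfl
    have hE0Q : E0 ≤ Q := fun z hz => ((hE0mem z).mp hz).1
    have hE0M : E0 ≤ M := hE0Q.trans (hQσ.trans hσM)
    have hE0comm : ∀ z ∈ E0, ∀ s ∈ Q, s * z = z * s := fun z hz => ((hE0mem z).mp hz).2.1
    have hE0exp : ∀ z ∈ E0, z ^ r = 1 := fun z hz => ((hE0mem z).mp hz).2.2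
    have hE0norm : M ≤ Subgroup.normalizer (E0 : Set G) := by
      apply le_normalizer_of_conj_mem_all
      intro m hm z hz
      rw [hE0mem]
      refine ⟨hMQ m hm z (hE0Q hz), fun s hs => ?_, ?_⟩
      · have h1 : m⁻¹ * s * m ∈ Q := by
          have := hMQ m⁻¹ (M.inv_mem hm) s hs
          simpa using this
        have h2 := hE0comm z hz _ h1
        calc s * (m * z * m⁻¹) = m * ((m⁻¹ * s * m) * z) * m⁻¹ := by group
          _ = m * (z * (m⁻¹ * s * m)) * m⁻¹ := by rw [h2]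
          _ = m * z * m⁻¹ * s := by group
      · rw [conj_pow, hE0exp z hz]
        group
    have hE0ne : E0 ≠ ⊥ := by
      have hQne : Nontrivial ↥Q := by
        rw [Subgroup.nontrivial_iff_ne_bot]
        intro h
        rw [h, Subgroup.mem_bot] at hx'Q
        exact hx'1 hx'Q
      have hQp' : IsPGroup r ↥Q := hQp
      have hZnt : Nontrivial ↥(Subgroup.center ↥Q) := hQp'.center_nontrivial
      have hZp : IsPGroup r ↥(Subgroup.center ↥Q) := hQp'.to_subgroup _
      have hZcard : r ∣ Nat.card ↥(Subgroup.center ↥Q) := by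
        rcases hZp.card_eq_or_dvd with h | h
        · exact absurd h (Finite.one_lt_card (α := ↥(Subgroup.center ↥Q))).ne'
        · exact h
      obtain ⟨z, hz⟩ := exists_prime_orderOf_dvd_card' (G := ↥(Subgroup.center ↥Q)) r hZcard
      intro hbot
      have hzE : ((z : ↥Q) : G) ∈ E0 := by
        rw [hE0mem]
        refine ⟨(z : ↥Q).2, fun s hs => ?_, ?_⟩
        · have h1 := Subgroup.mem_center_iff.mp z.2 ⟨s, hs⟩
          exact congrArg Subtype.val h1
        · have h1 : z ^ r = 1 := by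
            rw [← hz]
            exact pow_orderOf_eq_one z
          have h2 := congrArg (fun t : ↥(Subgroup.center ↥Q) => ((t : ↥Q) : G)) h1
          simpa using h2
      rw [hbot, Subgroup.mem_bot] at hzE
      have hz1 : z = 1 := Subtype.ext (Subtype.ext hzE)
      rw [hz1, orderOf_one] at hz
      exact hr.one_lt.ne hz
    -- the fixed point formula for the Frobenius group `UK` acting on `E₀`
    have hUn : ∀ e ∈ K, ∀ u ∈ U, e * u * e⁻¹ ∈ U := fun e he u hu =>
      (Subgroup.mem_normalizer_iff.mp (hKU.normal he) u).mp hu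
    have hfpf : ∀ e ∈ K, e ≠ 1 → ∀ u ∈ U, e * u = u * e → u = 1 := by
      intro e he he1 u hu hcomm
      have h1 : u ∈ U ⊓ Subgroup.centralizer ({e} : Set G) :=
        Subgroup.mem_inf.mpr ⟨hu, Subgroup.mem_centralizer_singleton_iff.mpr hcomm.symm⟩
      rw [h1353 M hM K U hKU e he he1, Subgroup.mem_bot] at h1
      exact h1
    have hUnil : Group.IsNilpotent ↥U :=
      Cfsg.Agent.Lib.Helper97.FrobFormula.nilpotent_of_fpf U K hK1 hUn hfpf
    have hUKM : U ⊔ K ≤ M := sup_le hUM hKM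
    have hE0top : E0 ≠ ⊤ := fun h => hM.1 (top_le_iff.mp (h ▸ hE0M))
    have hcopE : (Nat.card E0).Coprime (Nat.card ↥(U ⊔ K)) :=
      (Nat.Coprime.coprime_dvd_right (Subgroup.card_dvd_of_le (hE0Q.trans hQσ)) hcop).symm
    have hff := Cfsg.Agent.Lib.Helper97.FrobFormula.frob_formula U K E0 hUn hfpf hUnil
      (hUKM.trans hE0norm) (isSolvable_of_ne_top hG hE0top) hcopE
    have hCU0 : E0 ⊓ Subgroup.centralizer (U : Set G) = ⊥ := by
      rw [eq_bot_iff, ← hCU]
      exact inf_le_inf (hE0Q.trans hQσ) le_rfl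
    have hCUK0 : E0 ⊓ Subgroup.centralizer ((U ⊔ K : Subgroup G) : Set G) = ⊥ := by
      rw [eq_bot_iff, ← hCU0]
      exact inf_le_inf le_rfl (centralizer_anti (le_sup_left : U ≤ U ⊔ K))
    rw [hCU0, hCUK0] at hff
    simp only [Subgroup.card_bot, one_pow, one_mul, mul_one] at hff
    have hE0card1 : 1 < Nat.card E0 := by
      have : Nontrivial ↥E0 := (Subgroup.nontrivial_iff_ne_bot E0).mpr hE0ne
      exact Finite.one_lt_card
    have hE0p : IsPGroup r E0 := hQp.to_le hE0Q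
    have hc1 : Nat.card ↥(E0 ⊓ Subgroup.centralizer (K : Set G)) ≠ 1 := by
      intro h
      rw [h, one_pow] at hff
      omega
    have hrc : r ∣ Nat.card ↥(E0 ⊓ Subgroup.centralizer (K : Set G)) := by
      obtain ⟨n, hn⟩ := IsPGroup.iff_card.mp hE0p
      have hcd : Nat.card ↥(E0 ⊓ Subgroup.centralizer (K : Set G)) ∣ r ^ n := by
        rw [← hn]
        exact Subgroup.card_dvd_of_le inf_le_left
      obtain ⟨a, -, ha⟩ := (Nat.dvd_prime_pow hr).mp hcd
      rcases a with _ | a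
      · exact absurd (by simpa using ha) hc1
      · rw [ha]
        exact dvd_pow_self r (Nat.succ_ne_zero a)
    have hK3 : 3 ≤ Nat.card K := by
      have h2 := hprime.two_le
      have hodd : Odd (Nat.card K) := odd_card_subgroup hG K
      rcases h2.lt_or_eq with h | h
      · omega
      · rw [← h] at hodd
        exact absurd hodd (by decide)
    have hr3 : r ^ 3 ∣ Nat.card E0 := by
      rw [hff]
      exact (pow_dvd_pow r hK3).trans (pow_dvd_pow_of_dvd hrc _)
    have hcardge : r ^ 3 ≤ Nat.card E0 := Nat.le_of_dvd (by omega) hr3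
    -- `E₀` lies in a unique maximal subgroup
    have hnotrank : ∀ k : ℕ, k ≤ 2 → ¬ RankLE k ↥E0 := by
      intro k hk hrank
      have h1 := hrank r hr (⊤ : Subgroup ↥E0)
        ⟨⟨fun a b => Subtype.ext (Subtype.ext (hE0comm _ b.1.2 _ (hE0Q a.1.2)))⟩⟩
        (fun a _ => Subtype.ext (by simpa using hE0exp a.1 a.2))
      rw [Subgroup.card_top] at h1
      have h2 : r ^ k ≤ r ^ 2 := Nat.pow_le_pow_right hr.pos hk
      have h3 : r ^ 2 < r ^ 3 := Nat.pow_lt_pow_right hr.one_lt (by norm_num)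
      omega
    have hE0u : InUniqueMaximal E0 :=
      h1403 E0 hE0top (hnotrank 1 (by norm_num)) (Or.inl (hnotrank 2 le_rfl))
    have hE0g : InUniqueMaximal (E0.map (MulAut.conj g).toMonoidHom) :=
      Cfsg.Agent.Lib.Helper61.bg_unique_mapConj hE0u g
    have hCy : Subgroup.centralizer ({y'} : Set G) ≠ ⊤ :=
      Cfsg.Agent.Lib.Helper23.centralizer_singleton_ne_top hG hy'1
    obtain ⟨L, hL, hCL⟩ := exists_coatom_ge hCy
    have h1 : E0 ≤ L := by
      intro z hz
      apply hCL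
      rw [Subgroup.mem_centralizer_singleton_iff]
      exact (hE0comm z hz y' hy'Q).symm
    have h2 : E0.map (MulAut.conj g).toMonoidHom ≤ L := by
      rintro _ ⟨z, hz, rfl⟩
      apply hCL
      rw [Subgroup.mem_centralizer_singleton_iff]
      have h3 := hE0comm z hz x' hx'Q
      show g * z * g⁻¹ * y' = y' * (g * z * g⁻¹)
      rw [hy'def]
      calc g * z * g⁻¹ * (g * x' * g⁻¹) = g * (z * x') * g⁻¹ := by group
        _ = g * (x' * z) * g⁻¹ := by rw [h3]
        _ = g * x' * g⁻¹ * (g * z * g⁻¹) := by group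
    have hLM : L = M := hE0u.unique ⟨hL, h1⟩ ⟨hM, hE0M⟩
    have hLMg : L = M.map (MulAut.conj g).toMonoidHom :=
      hE0g.unique ⟨hL, h2⟩ ⟨coatom_map_conj hM g, Subgroup.map_mono hE0M⟩
    rw [← hLMg, hLM]
  · -- `x', y'` are `τ₂(M)`-elements of `F(M)` centralizing `M_σ`
    have hFnil : Group.IsNilpotent ↥(fittingOf M) := fittingOf_isNilpotent M
    obtain ⟨-, hYτ, hFeq⟩ := h1439 M hM
    have hrσcard : ¬ r ∣ Nat.card (sigmaCore M) := fun h => hrσ (sigmaCore_isPi M r hr h)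
    have hrτ : r ∈ tau2 M := by
      apply hYτ r hr
      have h1 : r ∣ Nat.card (fittingOf M) := by
        rw [← hx'ord]
        exact Subgroup.orderOf_dvd_natCard _ hx'F
      have hAF : fittingOf (sigmaCore M) ≤ fittingOf M := by
        have h := le_sup_left (a := fittingOf (sigmaCore M))
          (b := piCoreOf {q | q.Prime ∧ q ∉ Cfsg.sigma M} (fittingOf M))
        rwa [← hFeq] at h
      have hYn : fittingOf (sigmaCore M) ≤ Subgroup.normalizer
          ((piCoreOf {q | q.Prime ∧ q ∉ Cfsg.sigma M} (fittingOf M) : Subgroup G) : Set G) :=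
        hAF.trans (le_normalizer_map_subtype (fittingOf M) _)
      have h2 := Cfsg.Agent.Lib.Helper1.Mix.card_sup_dvd _ _ hYn
      rw [← hFeq] at h2
      rcases (Nat.Prime.dvd_mul hr).mp (h1.trans h2) with h | h
      · exact absurd (h.trans (Subgroup.card_dvd_of_le (fittingOf_le (sigmaCore M)))) hrσcard
      · exact h
    obtain ⟨z, hz, hz1⟩ : ∃ z ∈ sigmaCore M, z ≠ 1 := by
      by_contra hcon
      apply hσ1
      rw [Subgroup.eq_bot_iff_forall]
      intro z hz
      by_contra hz1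
      exact hcon ⟨z, hz, hz1⟩
    obtain ⟨E, hE⟩ := exists_compl_sigmaCore M hHall
    obtain ⟨-, -, -, h4⟩ := h1420 M hM E hE
    have key : ∀ w ∈ fittingOf M, orderOf w = r →
        Subgroup.centralizer ({w} : Set G) ≤ M ∧
          ∀ L : Subgroup G, IsCoatom L → Subgroup.centralizer ({w} : Set G) ≤ L → L = M := by
      intro w hw hword
      have hcomm : ∀ s ∈ sigmaCore M, w * s = s * w := by
        intro s hs
        apply Cfsg.Agent.Lib.Helper23.comm_of_coprime_orderOf hFnil hw (hσF hs)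
        rw [hword]
        apply (Nat.Prime.coprime_iff_not_dvd hr).mpr
        intro h
        exact hrσcard (h.trans (Subgroup.orderOf_dvd_natCard _ hs))
      have hwhat : w ∈ sigmaHat M := ⟨hFM hw, z, hz, hz1, hcomm z hz⟩
      exact h4 w (hFM hw) (hne1 w hword) (fun p hp hpd => by
        rw [hword] at hpd
        rw [(Nat.prime_dvd_prime_iff_eq hp hr).mp hpd]
        exact hrτ) hwhat
    obtain ⟨hCx, -⟩ := key x' hx'F hx'ord
    obtain ⟨-, huy⟩ := key y' hy'F hy'ord
    apply huy _ (coatom_map_conj hM g)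
    intro c hc
    rw [mem_map_conj_iff]
    apply hCx
    rw [Subgroup.mem_centralizer_singleton_iff] at hc ⊢
    rw [hy'def] at hc
    calc g⁻¹ * c * g * x' = g⁻¹ * (c * (g * x' * g⁻¹)) * g := by group
      _ = g⁻¹ * ((g * x' * g⁻¹) * c) * g := by rw [hc]
      _ = x' * (g⁻¹ * c * g) := by group

end Cfsg.Agent.Lib.Helper81.BG
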